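import Groth.Agent.BunMod.K140.Asm2
import Groth.Agent.Coherent.K739.KrQuot

/-!
# The charts of the atlas: Reynolds operators

`hasCharts`: for the quotient of `K739.KrQuot.exists_quot_GQ`, the hypothesis `HasCharts` of the assembly.
`exists_atlas`: the atlas of a closed subproblem, from `Pack`.
-/

set_option autoImplicit false
set_option backward.isDefEq.respectTransparency false
set_option backward.isDefEq.respectTransparency.types false

universe u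

open CategoryTheory CategoryTheory.Limits AlgebraicGeometry TensorProduct

namespace K739.Charts

open K140.BM
open K585.KronK (AS prS crd sOf pt actS fn ssOpen Pack IsAct IsStable Rel IsQuot)

variable {k : Type u} [Field k] {X : Scheme.{u}} [X.Over (Spec (CommRingCat.of k))]
variable {S : KSet X} {r a b : ℕ} {K : KRep (k := k) S.toKDat r a b}
  {Q : ∀ T : Over (B0 k), (ModFun.modProb (st k X)).Fam T → Prop} (R : SubRep K Q)
  (hF : KFacts (k := k) S r a b) (hQ : SubProb k X r Q)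
variable {m : ℕ} {M : Scheme.{u}} {c : M ⟶ CohB1.ProjSpaceOver m (B0 k)} {π : R.Z.left ⟶ M}

theorem hasCharts (q : IsQuot (K := k) (𝟙 (B0 k)) R.j c π)
    (H : K739.GoodQ.GQ (K739.KrQuot.kc (𝟙 (B0 k)) c) π {γ | IsAct (K := k) (𝟙 (B0 k)) R.j γ}) :
    R.HasCharts hF hQ q := by
  intro x
  obtain ⟨W, hx, hW⟩ := H.cover x
  refine ⟨W, hx, hW.aff, ?_⟩
  unfold IsReynolds
  let _ := algOn (k := k) R.Z (π ⁻¹ᵁ W)
  have hk : ∀ z : k, algebraMap k Γ(R.Z.left, π ⁻¹ᵁ W) z =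
      (π.app W).hom (K739.GoodQ.kap (K739.KrQuot.kc (𝟙 (B0 k)) c) W z) := by
    intro z
    have h1 : π ≫ (c ≫ CohB1.ProjSpaceOver.toBase m (B0 k) ≫ 𝟙 (B0 k)) = R.Z.hom := by
      rw [Category.comp_id, q.comp, ← R.j_w]
    have h2 : (π.app W).hom (K739.GoodQ.kap (K739.KrQuot.kc (𝟙 (B0 k)) c) W z) =
        (R.Z.left.presheaf.map (homOfLE (le_top : π ⁻¹ᵁ W ≤ ⊤)).op).hom
          (π.appTop.hom (K739.KrQuot.kc (𝟙 (B0 k)) c z)) := by
      have := π.naturality (homOfLE (le_top : W ≤ ⊤)).op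
      exact congr($this (K739.KrQuot.kc (𝟙 (B0 k)) c z))
    have h3 : π.appTop.hom (K739.KrQuot.kc (𝟙 (B0 k)) c z) = sOf R.Z.hom z := by
      rw [← h1, K739.KrAff.sOf_comp]
      rfl
    rw [h2, h3]
    change ((R.Z.hom.appLE ⊤ (π ⁻¹ᵁ W) le_top).hom.comp (Scheme.ΓSpecIso (CommRingCat.of k)).inv.hom) z = _
    have h4 : R.Z.hom.appLE ⊤ (π ⁻¹ᵁ W) le_top =
        R.Z.hom.app ⊤ ≫ R.Z.left.presheaf.map (homOfLE (le_top : π ⁻¹ᵁ W ≤ ⊤)).op := by
      rw [Scheme.Hom.app_eq_appLE, Scheme.Hom.appLE_map]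
    rw [h4]
    rfl
  obtain ⟨ρ, h1, h2, h3, h4, h5⟩ := hW.exists_stable H.inv hk
  refine ⟨ρ, h1, h2, h3, fun Λ _ _ J hJ => h5 Λ J fun γ hγ τ e hτ => ?_⟩
  obtain ⟨u, v, rfl⟩ := (R.isAct_iff hF hQ γ).mp hγ
  exact hJ (R.γ hF hQ u v) ⟨u, v, rfl⟩ τ e hτ

include hF hQ in
/-- the atlas, from the invariant theory and closedness in the semistable locus -/
theorem exists_atlas [IsAlgClosed k] [CharZero k] {e : ℕ} {f : Fin (m + 1) → K585.KronK.Poly k a b S.h}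
    {ρ : K585.KronK.Poly k a b S.h →ₗ[k] K585.KronK.Poly k a b S.h} (P : Pack a b S.h m e f ρ)
    (hle : Set.range R.j ⊆ ssOpen (𝟙 (B0 k)) f)
    (hcl : ∃ Z : Set (AS a b S.h (B0 k)), IsClosed Z ∧ Set.range R.j = Z ∩ ssOpen (𝟙 (B0 k)) f) :
    Nonempty (AtlasC k X Q) := by
  obtain ⟨M, c, π, h1, h2, h3, h4, -⟩ := K739.KrQuot.exists_quot_GQ P (𝟙 (B0 k)) R.j hle hcl (R.isStable hF hQ)
  have q := K739.KrQuot.isQuot_of_GQ h1 h2 h3 h4
  exact ⟨R.atlas hF hQ q (hasCharts R hF hQ q h4)⟩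

end K739.Charts
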